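import Groth.Agent.CAlg9.Node.Domain
import Mathlib.RingTheory.MvPowerSeries.Equiv
import Mathlib.RingTheory.AdicCompletion.AsTensorProduct
import Mathlib.RingTheory.Flat.Localization
import Mathlib.RingTheory.RingHom.Flat
import Mathlib.RingTheory.TensorProduct.Quotient
import Mathlib.RingTheory.Ideal.GoingDown
import Mathlib.RingTheory.Ideal.KrullsHeightTheorem
import Mathlib.RingTheory.Flat.FaithfullyFlat.Algebra

/-!
The completion map of the node ring is faithfully flat, and fibral height one primes correspond.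
-/

set_option autoImplicit false
universe u v

namespace Groth.Agent.CAlg9.Node

open IsLocalRing

section Flat

theorem flat_quotientMap' {R R' : Type u} [CommRing R] [CommRing R'] [Algebra R R'] [Module.Flat R R']
    (I : Ideal R) :
    (algebraMap (R ⧸ I) (R' ⧸ I.map (algebraMap R R'))).Flat := by
  let e₁ : TensorProduct R (R ⧸ I) R' ≃ₗ[R] R' ⧸ I.map (algebraMap R R') :=
    ((Algebra.TensorProduct.quotIdealMapEquivTensorQuot R' I).toLinearEquiv.restrictScalars R ≪≫ₗ
      TensorProduct.comm R R' (R ⧸ I)).symm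
  let e₂ : TensorProduct R (R ⧸ I) R' ≃ₗ[R ⧸ I] R' ⧸ I.map (algebraMap R R') :=
    { e₁.toAddEquiv with
      map_smul' := fun c z => by
        obtain ⟨c, rfl⟩ := Ideal.Quotient.mk_surjective c
        show e₁ ((Ideal.Quotient.mk I c) • z) = _
        rw [← Ideal.Quotient.algebraMap_eq, algebraMap_smul, map_smul, RingHom.id_apply]
        exact (algebraMap_smul (R ⧸ I) c (e₁ z)).symm }
  exact RingHom.flat_algebraMap_iff.mpr (Module.Flat.of_linearEquiv e₂.symm)

theorem flat_coe (σ : Type v) (R : Type u) [Finite σ] [CommRing R] [IsNoetherianRing R] :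
    (MvPolynomial.coeToMvPowerSeries.ringHom : MvPolynomial σ R →+* MvPowerSeries σ R).Flat := by
  have : Module.Flat (MvPolynomial σ R) (MvPowerSeries σ R) :=
    Module.Flat.of_linearEquiv (MvPowerSeries.toAdicCompletionAlgEquiv σ R).toLinearEquiv
  have h : (MvPolynomial.coeToMvPowerSeries.ringHom : MvPolynomial σ R →+* MvPowerSeries σ R) =
      algebraMap (MvPolynomial σ R) (MvPowerSeries σ R) := by
    ext <;> simp [MvPowerSeries.algebraMap_apply']
  rw [h]
  exact RingHom.flat_algebraMap_iff.mpr this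

theorem flat_quotient_hom {R R' : Type u} [CommRing R] [CommRing R'] (g : R →+* R') (hg : g.Flat)
    (I : Ideal R) (J : Ideal R') (hJ : I.map g = J) (ι : R ⧸ I →+* R' ⧸ J)
    (hι : ι.comp (Ideal.Quotient.mk I) = (Ideal.Quotient.mk J).comp g) : ι.Flat := by
  subst hJ
  algebraize [g]
  have : ι = algebraMap (R ⧸ I) (R' ⧸ I.map (algebraMap R R')) := by
    refine Ideal.Quotient.ringHom_ext (hι.trans ?_)
    ext x
    rfl
  rw [this]
  exact flat_quotientMap' I

theorem flat_of_localization {B S A : Type u} [CommRing B] [CommRing S] [CommRing A] [Algebra B S]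
    (M : Submonoid B) [IsLocalization M S] (φ : S →+* A) (h : (φ.comp (algebraMap B S)).Flat) :
    φ.Flat := by
  algebraize [φ, φ.comp (algebraMap B S)]
  exact (Module.flat_iff_of_isLocalization S M A).2 h

end Flat

/-- primes of height one containing an image of the base correspond along a flat local map,
provided extensions of height one such primes are prime. -/
theorem bijOn_comap {R S A : Type u} [CommRing R] [CommRing S] [CommRing A] [Algebra R S]
    [Algebra R A] [IsLocalRing S] [IsLocalRing A] [IsNoetherianRing S] [IsNoetherianRing A] [IsDomain A]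
    (φ : S →+* A) [IsLocalHom φ] (hflat : φ.Flat)
    (hR : φ.comp (algebraMap R S) = algebraMap R A) (hinj : Function.Injective (algebraMap R A))
    (hprime : ∀ 𝔮 : Ideal S, 𝔮.IsPrime → 𝔮.height = 1 → Ideal.comap (algebraMap R S) 𝔮 ≠ ⊥ →
      (𝔮.map φ).IsPrime) :
    Set.BijOn (fun 𝔓 => Ideal.comap φ 𝔓)
      {𝔓 | 𝔓.IsPrime ∧ 𝔓.height = 1 ∧ Ideal.comap (algebraMap R A) 𝔓 ≠ ⊥}
      {𝔮 : Ideal S | 𝔮.IsPrime ∧ 𝔮.height = 1 ∧ Ideal.comap (algebraMap R S) 𝔮 ≠ ⊥} := by
  algebraize [φ]
  have : IsLocalHom (algebraMap S A) := ‹IsLocalHom φ›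
  have : Module.FaithfullyFlat S A := Module.FaithfullyFlat.of_flat_of_isLocalHom
  have hcm : ∀ I : Ideal S, (I.map φ).comap φ = I := fun I =>
    Ideal.comap_map_eq_self_of_faithfullyFlat (B := A) I
  have hφinj : Function.Injective φ := (RingHom.injective_iff_ker_eq_bot _).2 (by
    simpa [RingHom.ker] using hcm ⊥)
  have : IsDomain S := hφinj.isDomain φ
  have hcR : ∀ P : Ideal A, (P.comap φ).comap (algebraMap R S) = P.comap (algebraMap R A) := fun P => by
    rw [Ideal.comap_comap, hR]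
  have hne : ∀ q : Ideal S, q.comap (algebraMap R S) ≠ ⊥ → q ≠ ⊥ := fun q hq e => by
    subst e
    refine hq ((Ideal.comap_bot_of_injective _ ?_))
    have : Function.Injective (φ.comp (algebraMap R S)) := by rw [hR]; exact hinj
    rw [RingHom.coe_comp] at this
    exact Function.Injective.of_comp this
  have hle : ∀ P : Ideal A, P.IsPrime → (P.comap φ).height ≤ P.height := fun P hP => by
    have : P.LiesOver (P.comap φ) := ⟨rfl⟩
    rw [Ideal.height_eq_height_add_of_liesOver_of_hasGoingDown (P.comap φ) P]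
    exact le_self_add
  have hpos : ∀ q : Ideal S, q.IsPrime → q ≠ ⊥ → 1 ≤ q.height := fun q hq h => by
    rw [Order.one_le_iff_ne_zero]
    exact fun h0 => h (Ideal.height_eq_zero_iff_eq_bot.1 h0)
  refine ⟨?_, ?_, ?_⟩
  · rintro P ⟨hP, h1, h2⟩
    refine ⟨Ideal.comap_isPrime φ P, le_antisymm (h1 ▸ hle P hP) ?_, by rwa [hcR]⟩
    exact hpos _ (Ideal.comap_isPrime φ P) (hne _ (by rwa [hcR]))
  · rintro P ⟨hP, h1, h2⟩ P' ⟨hP', h1', h2'⟩ he
    dsimp only at he
    have key : ∀ Q : Ideal A, Q.IsPrime → Q.height = 1 → Q.comap (algebraMap R A) ≠ ⊥ →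
        (Q.comap φ).map φ = Q := by
      intro Q hQ hQ1 hQ2
      have hq0 := hne _ (show (Q.comap φ).comap (algebraMap R S) ≠ ⊥ by rwa [hcR])
      have hq1 : (Q.comap φ).height = 1 :=
        le_antisymm (hQ1 ▸ hle Q hQ) (hpos _ (Ideal.comap_isPrime φ Q) hq0)
      have hp := hprime _ (Ideal.comap_isPrime φ Q) hq1 (by rwa [hcR])
      refine le_antisymm Ideal.map_comap_le ?_
      by_contra hlt
      have hlt' : (Q.comap φ).map φ < Q := lt_of_le_not_ge Ideal.map_comap_le hlt
      have hQ' : Q.FiniteHeight := inferInstance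
      have := Ideal.height_strict_mono_of_isPrime hlt'
      rw [hQ1, ENat.lt_one_iff_eq_zero, Ideal.height_eq_zero_iff_eq_bot] at this
      refine hq0 ?_
      rw [← hcm (Q.comap φ), this]
      exact Ideal.comap_bot_of_injective _ hφinj
    rw [← key P hP h1 h2, ← key P' hP' h1' h2', he]
  · rintro q ⟨hq, h1, h2⟩
    have hp := hprime q hq h1 h2
    refine ⟨q.map φ, ⟨hp, ?_, ?_⟩, hcm q⟩
    · have : (q.map φ).LiesOver q := ⟨(hcm q).symm⟩
      rw [Ideal.height_eq_height_add_of_liesOver_of_hasGoingDown q (q.map φ), h1]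
      have e : (q.map φ).map (Ideal.Quotient.mk (q.map (algebraMap S A))) = ⊥ := Ideal.map_quotient_self _
      have : Nontrivial (A ⧸ q.map (algebraMap S A)) := Ideal.Quotient.nontrivial_iff.2 hp.ne_top
      have : IsDomain (A ⧸ q.map (algebraMap S A)) := (Ideal.Quotient.isDomain_iff_prime _).2 hp
      rw [e, Ideal.height_bot, add_zero]
    · rw [← hcR, hcm]; exact h2

open MvPowerSeries in
theorem algebraMap_node_injective {R : Type u} [CommRing R] [IsDomain R] [IsLocalRing R]
    [IsNoetherianRing R] (r : R) (hrm : r ∈ maximalIdeal R) :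
    Function.Injective (algebraMap R
      (MvPowerSeries (Fin 2) R ⧸ Ideal.span {(X 0 * X 1 - C r : MvPowerSeries (Fin 2) R)})) := by
  classical
  rw [injective_iff_map_eq_zero]
  intro c hc
  rw [← Ideal.Quotient.mk_algebraMap, Ideal.Quotient.eq_zero_iff_mem,
    Ideal.mem_span_singleton'] at hc
  obtain ⟨h, hh⟩ := hc
  rw [show algebraMap R (MvPowerSeries (Fin 2) R) c = C c from rfl, mul_comm, sub_mul, mul_assoc] at hh
  have hk : ∀ k : ℕ, c = -(r ^ (k + 1) * coeff (Finsupp.single 0 k + Finsupp.single 1 k) h) := by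
    intro k
    induction k with
    | zero =>
      have := congrArg (coeff 0) hh
      rw [map_sub, coeff_X_mul, coeff_C_mul, coeff_C] at this
      simpa using this.symm
    | succ k ih =>
      have := congrArg (coeff (Finsupp.single 0 (k + 1) + Finsupp.single 1 (k + 1))) hh
      rw [map_sub, coeff_X_mul, coeff_X_mul, coeff_C_mul, coeff_C, if_pos (by simp),
        if_pos (by simp), if_neg (fun e => by simpa using DFunLike.congr_fun e 0)] at this
      have e : (Finsupp.single (0 : Fin 2) (k + 1) + Finsupp.single 1 (k + 1)) - Finsupp.single 0 1 -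
          Finsupp.single 1 1 = Finsupp.single 0 k + Finsupp.single 1 k := by
        ext a; fin_cases a <;> simp
      rw [e, sub_eq_zero] at this
      rw [ih, this]; ring
  rw [← Ideal.mem_bot, ← Ideal.iInf_pow_eq_bot_of_isLocalRing (Ideal.span {r})
    (fun e => (mem_maximalIdeal _).1 hrm (Ideal.span_singleton_eq_top.1 e)), Ideal.mem_iInf]
  intro n
  refine Ideal.pow_le_pow_right (Nat.le_succ n) ?_
  rw [Ideal.span_singleton_pow, Ideal.mem_span_singleton, hk n]
  exact dvd_neg.2 (dvd_mul_right _ _)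

open MvPowerSeries in
/-- fibral height one primes of a flat local subring of the node ring correspond -/
theorem node_bijOn {R : Type u} [CommRing R] [IsDomain R] [IsLocalRing R] [IsNoetherianRing R]
    [IsAdicComplete (maximalIdeal R) R] (r : R) (hr : r ≠ 0) (hrm : r ∈ maximalIdeal R)
    (S : Type u) [CommRing S] [Algebra R S] [IsLocalRing S] [IsNoetherianRing S]
    (φ : S →+* (MvPowerSeries (Fin 2) R ⧸ Ideal.span {(X 0 * X 1 - C r : MvPowerSeries (Fin 2) R)}))
    [IsLocalHom φ] (hflat : φ.Flat) (hR : φ.comp (algebraMap R S) = algebraMap R _) (x : Fin 2 → S)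
    (hx : ∀ i, φ (x i) = Ideal.Quotient.mk _ (X i)) :
    Set.BijOn (fun 𝔓 => Ideal.comap φ 𝔓)
      {𝔓 | 𝔓.IsPrime ∧ 𝔓.height = 1 ∧ Ideal.comap (algebraMap R _) 𝔓 ≠ ⊥}
      {𝔮 : Ideal S | 𝔮.IsPrime ∧ 𝔮.height = 1 ∧ Ideal.comap (algebraMap R S) 𝔮 ≠ ⊥} := by
  have hdomA := isDomain_node r hrm hr
  have : IsLocalRing (MvPowerSeries (Fin 2) R ⧸
      Ideal.span {(X 0 * X 1 - C r : MvPowerSeries (Fin 2) R)}) :=
    IsLocalRing.of_surjective' _ Ideal.Quotient.mk_surjective
  have hinj := algebraMap_node_injective r hrm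
  refine bijOn_comap φ hflat hR hinj fun 𝔮 h𝔮 h1 h2 => ?_
  algebraize [φ]
  have : IsLocalHom (algebraMap S (MvPowerSeries (Fin 2) R ⧸
      Ideal.span {(X 0 * X 1 - C r : MvPowerSeries (Fin 2) R)})) := ‹IsLocalHom φ›
  have hff : Module.FaithfullyFlat S (MvPowerSeries (Fin 2) R ⧸
      Ideal.span {(X 0 * X 1 - C r : MvPowerSeries (Fin 2) R)}) :=
    Module.FaithfullyFlat.of_flat_of_isLocalHom
  have hcm : ∀ I : Ideal S, (I.map φ).comap φ = I :=
    fun I => Ideal.comap_map_eq_self_of_faithfullyFlat I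
  have hφi : Function.Injective φ := by
    rw [RingHom.injective_iff_ker_eq_bot]
    simpa [RingHom.ker] using hcm ⊥
  have : IsDomain S := hφi.isDomain φ
  have hRS : Function.Injective (algebraMap R S) := by
    have := hinj
    rw [← hR, RingHom.coe_comp] at this
    exact Function.Injective.of_comp this
  let p := Ideal.comap (algebraMap R S) 𝔮
  have hpp : p.IsPrime := Ideal.comap_isPrime _ _
  have key : ∀ I : Ideal S, I ≤ 𝔮 → p.map (algebraMap R S) ≤ I → (I.map φ).IsPrime →
      (𝔮.map φ).IsPrime := by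
    intro I hI hpI hprime
    have hIp : I.IsPrime := hcm I ▸ Ideal.comap_isPrime φ _
    have hI0 : I ≠ ⊥ := by
      intro e
      rw [e, le_bot_iff, Ideal.map_eq_bot_iff_le_ker, (RingHom.injective_iff_ker_eq_bot _).1 hRS,
        le_bot_iff] at hpI
      exact h2 hpI
    rcases eq_or_lt_of_le hI with e | hlt
    · exact e ▸ hprime
    · have := Ideal.height_strict_mono_of_isPrime hlt
      rw [h1, ENat.lt_one_iff_eq_zero, Ideal.height_eq_zero_iff_eq_bot] at this
      exact absurd this hI0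
  have hmapR : (p.map (algebraMap R S)).map φ =
      p.map ((Ideal.Quotient.mk (Ideal.span {(X 0 * X 1 - C r : MvPowerSeries (Fin 2) R)})).comp
        (C (σ := Fin 2))) := by
    rw [Ideal.map_map, hR]
    rfl
  by_cases hrp : r ∈ p
  · have hprod : x 0 * x 1 = algebraMap R S r := by
      apply hφi
      rw [map_mul, hx, hx, ← map_mul, ← RingHom.comp_apply, hR,
        Ideal.Quotient.eq.2 (Ideal.mem_span_singleton_self _)]
      rfl
    obtain ⟨i, hi⟩ : ∃ i, x i ∈ 𝔮 := by
      rcases h𝔮.mem_or_mem (show x 0 * x 1 ∈ 𝔮 by rw [hprod]; exact hrp) with h | h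
      · exact ⟨0, h⟩
      · exact ⟨1, h⟩
    obtain ⟨j, hij⟩ : ∃ j, i ≠ j := ⟨i + 1, by fin_cases i <;> simp⟩
    refine key (p.map (algebraMap R S) ⊔ Ideal.span {x i})
      (sup_le Ideal.map_comap_le (by simpa [Ideal.span_le] using hi)) le_sup_left ?_
    rw [Ideal.map_sup, hmapR, Ideal.map_span, Set.image_singleton, hx]
    exact isPrime_map_sup_of_mem r p hrp i j hij
  · refine key _ Ideal.map_comap_le le_rfl ?_
    rw [hmapR]
    exact isPrime_map_of_notMem r hrm p hrp

theorem map_le_maximalIdeal_node {R : Type u} [CommRing R] [IsLocalRing R] (r : R)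
    {B : Type v} [CommRing B] [Algebra R B]
    [IsLocalRing (MvPowerSeries (Fin 2) R ⧸
      Ideal.span {(MvPowerSeries.X 0 * MvPowerSeries.X 1 - MvPowerSeries.C r : MvPowerSeries (Fin 2) R)})]
    (ι : B →+* (MvPowerSeries (Fin 2) R ⧸
      Ideal.span {(MvPowerSeries.X 0 * MvPowerSeries.X 1 - MvPowerSeries.C r : MvPowerSeries (Fin 2) R)}))
    (x₀ x₁ : B) (h₀ : ι x₀ = Ideal.Quotient.mk _ (MvPowerSeries.X 0))
    (h₁ : ι x₁ = Ideal.Quotient.mk _ (MvPowerSeries.X 1))
    (hC : ∀ c, ι (algebraMap R B c) = Ideal.Quotient.mk _ (MvPowerSeries.C c)) :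
    (Ideal.span {x₀, x₁} ⊔ (maximalIdeal R).map (algebraMap R B)).map ι ≤ maximalIdeal _ := by
  have hmem : ∀ f : MvPowerSeries (Fin 2) R, MvPowerSeries.constantCoeff f ∈ maximalIdeal R →
      Ideal.Quotient.mk (Ideal.span {(MvPowerSeries.X 0 * MvPowerSeries.X 1 - MvPowerSeries.C r : MvPowerSeries (Fin 2) R)}) f ∈
        maximalIdeal _ := by
    intro f hf
    rw [← IsLocalRing.map_maximalIdeal_of_surjective _ Ideal.Quotient.mk_surjective]
    refine Ideal.mem_map_of_mem _ ?_
    rw [mem_maximalIdeal, mem_nonunits_iff, MvPowerSeries.isUnit_iff_constantCoeff]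
    exact hf
  rw [Ideal.map_sup, Ideal.map_span, Ideal.map_map]
  refine sup_le (Ideal.span_le.2 ?_) (Ideal.map_le_iff_le_comap.2 fun c hc => ?_)
  · rintro _ ⟨_, rfl | rfl, rfl⟩
    · rw [SetLike.mem_coe, h₀]; exact hmem _ (by simp)
    · rw [SetLike.mem_coe, h₁]; exact hmem _ (by simp)
  · rw [Ideal.mem_comap, RingHom.comp_apply, hC]
    exact hmem _ (by simpa using hc)

theorem isLocalHom_of_localization {B S A : Type*} [CommRing B] [CommRing S] [CommRing A]
    [Algebra B S] (P : Ideal B) [P.IsPrime] [IsLocalization.AtPrime S P] [IsLocalRing S] [IsLocalRing A]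
    (φ : S →+* A) (ι : B →+* A) (h : φ.comp (algebraMap B S) = ι)
    (hP : P.map ι ≤ maximalIdeal A) : IsLocalHom φ := by
  refine ((IsLocalRing.local_hom_TFAE φ).out 0 2).2 ?_
  rw [← IsLocalization.AtPrime.map_eq_maximalIdeal P S, Ideal.map_map, h]
  exact hP

theorem flat_node {R : Type u} [CommRing R] [IsNoetherianRing R] (r : R)
    {S : Type u} [CommRing S]
    [Algebra (MvPolynomial (Fin 2) R ⧸ Ideal.span {(MvPolynomial.X 0 * MvPolynomial.X 1 - MvPolynomial.C r : MvPolynomial (Fin 2) R)}) S]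
    (M : Submonoid (MvPolynomial (Fin 2) R ⧸ Ideal.span {(MvPolynomial.X 0 * MvPolynomial.X 1 - MvPolynomial.C r : MvPolynomial (Fin 2) R)}))
    [IsLocalization M S]
    (ι : (MvPolynomial (Fin 2) R ⧸ Ideal.span {(MvPolynomial.X 0 * MvPolynomial.X 1 - MvPolynomial.C r : MvPolynomial (Fin 2) R)}) →+*
      (MvPowerSeries (Fin 2) R ⧸ Ideal.span {(MvPowerSeries.X 0 * MvPowerSeries.X 1 - MvPowerSeries.C r : MvPowerSeries (Fin 2) R)}))
    (hι : ι.comp (Ideal.Quotient.mk _) =
      (Ideal.Quotient.mk _).comp (MvPolynomial.coeToMvPowerSeries.ringHom : MvPolynomial (Fin 2) R →+* MvPowerSeries (Fin 2) R))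
    (φ : S →+* (MvPowerSeries (Fin 2) R ⧸ Ideal.span {(MvPowerSeries.X 0 * MvPowerSeries.X 1 - MvPowerSeries.C r : MvPowerSeries (Fin 2) R)}))
    (hφ : φ.comp (algebraMap _ S) = ι) : φ.Flat := by
  have hrel : (Ideal.span {(MvPolynomial.X 0 * MvPolynomial.X 1 - MvPolynomial.C r : MvPolynomial (Fin 2) R)}).map
      (MvPolynomial.coeToMvPowerSeries.ringHom : MvPolynomial (Fin 2) R →+* MvPowerSeries (Fin 2) R) =
      Ideal.span {(MvPowerSeries.X 0 * MvPowerSeries.X 1 - MvPowerSeries.C r : MvPowerSeries (Fin 2) R)} := by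
    rw [Ideal.map_span, Set.image_singleton, map_sub, map_mul]
    simp
  refine flat_of_localization (S := S) M φ ?_
  rw [hφ]
  exact flat_quotient_hom _ (flat_coe (Fin 2) R) _ _ hrel ι hι

end Groth.Agent.CAlg9.Node
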