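import Mathlib.RingTheory.MvPowerSeries.Basic
import Mathlib.RingTheory.MvPowerSeries.Inverse
import Mathlib.RingTheory.AdicCompletion.Basic
import Mathlib.RingTheory.Ideal.Quotient.Basic
import Mathlib.RingTheory.LocalRing.MaximalIdeal.Basic
import Mathlib.Tactic.LinearCombination
import Mathlib.Tactic.Ring

/-!
Coordinates on the node ring `R[[x, y]]/(x y - r)`: every series is congruent to one supported
on the two axes, and multiplication by a variable shifts the coordinates.
-/

set_option autoImplicit false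
universe u

open MvPowerSeries

namespace Groth.Agent.CAlg9.Node

variable {R : Type u} [CommRing R]

/-- the series with coefficient `c k` at `k • e i` and `c (-k)` at `k • e j`, zero off the axes -/
def ser (i j : Fin 2) (c : ℤ → R) : MvPowerSeries (Fin 2) R :=
  fun d => if d j = 0 then c (d i) else if d i = 0 then c (-(d j : ℤ)) else 0

theorem coeff_ser (i j : Fin 2) (c : ℤ → R) (d : Fin 2 →₀ ℕ) :
    coeff d (ser i j c) = if d j = 0 then c (d i) else if d i = 0 then c (-(d j : ℤ)) else 0 :=
  rfl

theorem fin2_cases {i j : Fin 2} (hij : i ≠ j) (k : Fin 2) : k = i ∨ k = j := by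
  fin_cases i <;> fin_cases j <;> fin_cases k <;> simp_all

theorem X_mul_X_eq {i j : Fin 2} (hij : i ≠ j) :
    (X i * X j : MvPowerSeries (Fin 2) R) = X 0 * X 1 := by
  fin_cases i <;> fin_cases j <;> simp_all [mul_comm]

theorem ser_swap (i j : Fin 2) (c : ℤ → R) : ser j i (fun k => c (-k)) = ser i j c := by
  ext d
  rw [coeff_ser, coeff_ser]
  by_cases h1 : d i = 0 <;> by_cases h2 : d j = 0 <;> simp [h1, h2]

theorem C_mul_ser (i j : Fin 2) (t : R) (c : ℤ → R) :
    C t * ser i j c = ser i j (fun k => t * c k) := by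
  ext d
  rw [coeff_C_mul, coeff_ser, coeff_ser]
  split_ifs <;> simp

theorem coeff_X_mul (i : Fin 2) (g : MvPowerSeries (Fin 2) R) (d : Fin 2 →₀ ℕ) :
    coeff d (X i * g) = if 1 ≤ d i then coeff (d - Finsupp.single i 1) g else 0 := by
  classical
  rw [X_def, coeff_monomial_mul, one_mul]
  exact if_congr (by simp [Finsupp.single_le_iff]) rfl rfl

/-- the shift of coordinates induced by multiplication by the `i`-th variable -/
def shift (r : R) (c : ℤ → R) : ℤ → R := fun k => if 1 ≤ k then c (k - 1) else c (k - 1) * r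

theorem X_mul_ser (i j : Fin 2) (hij : i ≠ j) (r : R) (c : ℤ → R) :
    X i * ser i j c - ser i j (shift r c) ∈
      Ideal.span {(X i * X j - C r : MvPowerSeries (Fin 2) R)} := by
  classical
  let h : MvPowerSeries (Fin 2) R := fun d => if d i = 0 then c (-(d j : ℤ) - 1) else 0
  have hh : ∀ d, coeff d h = if d i = 0 then c (-(d j : ℤ) - 1) else 0 := fun d => rfl
  refine Ideal.mem_span_singleton'.2 ⟨h, ?_⟩
  ext d
  rw [mul_comm, sub_mul, map_sub, map_sub, mul_assoc, coeff_X_mul, coeff_X_mul, coeff_X_mul, coeff_C_mul, hh, hh,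
    coeff_ser, coeff_ser]
  simp only [shift, Finsupp.tsub_apply, Finsupp.single_eq_same,
    Finsupp.single_eq_of_ne hij, Finsupp.single_eq_of_ne hij.symm, tsub_zero]
  obtain hi | hi | hi : d i = 0 ∨ d i = 1 ∨ 2 ≤ d i := by omega
  · by_cases hj : d j = 0
    · simp [hi, hj, mul_comm]
    · have h1 : ¬ 1 ≤ -(d j : ℤ) := by omega
      simp [hi, hj, h1, mul_comm]
  · by_cases hj : d j = 0
    · simp [hi, hj]
    · have h1 : 1 ≤ d j := by omega
      simp [hi, hj, h1]
  · have h1 : 1 ≤ d i := by omega
    have h2 : d i - 1 ≠ 0 := by omega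
    have h3 : d i ≠ 0 := by omega
    by_cases hj : d j = 0
    · have h4 : (1 : ℤ) ≤ (d i : ℤ) := by omega
      have h5 : ((d i - 1 : ℕ) : ℤ) = (d i : ℤ) - 1 := by omega
      simp [hj, h1, h2, h3, h4, h5]
    · simp [hj, h1, h2, h3]

theorem mk_X_pow_mul_ser (i j : Fin 2) (hij : i ≠ j) (r : R) (c : ℤ → R) (n : ℕ) :
    Ideal.Quotient.mk (Ideal.span {(X i * X j - C r : MvPowerSeries (Fin 2) R)})
        (X i ^ n * ser i j c) =
      Ideal.Quotient.mk _ (ser i j fun k => c (k - n) * r ^ (min n ((n : ℤ) - k).toNat)) := by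
  induction n with
  | zero => simp
  | succ n ih =>
    rw [pow_succ', mul_assoc, map_mul, ih, ← map_mul,
      Ideal.Quotient.eq.2 (X_mul_ser i j hij r _)]
    congr 2
    funext k
    by_cases hk : 1 ≤ k
    · simp only [shift, if_pos hk]
      congr 2
      · push_cast; ring
      · omega
    · simp only [shift, if_neg hk]
      rw [mul_assoc, ← pow_succ]
      congr 2
      · push_cast; ring
      · omega

theorem exists_ser [IsLocalRing R] [IsAdicComplete (IsLocalRing.maximalIdeal R) R] (i j : Fin 2)
    (hij : i ≠ j) (r : R) (hr : r ∈ IsLocalRing.maximalIdeal R) (f : MvPowerSeries (Fin 2) R) :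
    ∃ c : ℤ → R, f - ser i j c ∈ Ideal.span {(X i * X j - C r : MvPowerSeries (Fin 2) R)} := by
  classical
  let m := IsLocalRing.maximalIdeal R
  let F : ℕ → ℕ → R := fun p q => coeff (Finsupp.single i p + Finsupp.single j q) f
  let s : ℕ → ℕ → ℕ → R := fun p q N => ∑ l ∈ Finset.range N, F (p + l) (q + l) * r ^ l
  have hs : ∀ p q M N, M ≤ N → s p q N - s p q M ∈ m ^ M := by
    intro p q M N h
    simp only [s, ← Finset.sum_Ico_eq_sub _ h]
    refine sum_mem fun l hl => Ideal.mul_mem_left _ _ ?_
    exact Ideal.pow_le_pow_right (Finset.mem_Ico.1 hl).1 (Ideal.pow_mem_pow hr l)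
  have hex : ∀ p q, ∃ L : R, ∀ N, s p q N - L ∈ m ^ N := by
    intro p q
    obtain ⟨L, hL⟩ := IsPrecomplete.prec' (I := m) (s p q) (fun {M N} h => by
      rw [SModEq.sub_mem]
      have := (m ^ M).neg_mem (hs p q M N h)
      simpa using this)
    refine ⟨L, fun N => ?_⟩
    have := SModEq.sub_mem.1 (hL N)
    simpa using this
  choose T hT using hex
  have hrec : ∀ p q, T p q = F p q + r * T (p + 1) (q + 1) := by
    intro p q
    rw [← sub_eq_zero]
    refine IsHausdorff.haus' (I := m) _ fun N => ?_
    rw [SModEq.zero, smul_eq_mul, Ideal.mul_top]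
    have h1 : s p q (N + 1) = F p q + r * s (p + 1) (q + 1) N := by
      simp only [s, Finset.sum_range_succ', Finset.mul_sum]
      rw [add_comm]
      congr 1
      · simp
      · refine Finset.sum_congr rfl fun l _ => ?_
        rw [pow_succ, add_right_comm p, add_right_comm q]
        ring_nf
    have h2 := Ideal.pow_le_pow_right (show N ≤ N + 1 by omega) (hT p q (N + 1))
    have h3 := (m ^ N).mul_mem_left r (hT (p + 1) (q + 1) N)
    have h4 := (m ^ N).sub_mem h3 h2
    rw [h1] at h4
    convert h4 using 1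
    ring
  let h : MvPowerSeries (Fin 2) R := fun d => T (d i + 1) (d j + 1)
  have hh : ∀ d, coeff d h = T (d i + 1) (d j + 1) := fun d => rfl
  refine ⟨fun k => T k.toNat (-k).toNat, Ideal.mem_span_singleton'.2 ⟨h, ?_⟩⟩
  ext d
  have hd : Finsupp.single i (d i) + Finsupp.single j (d j) = d := by
    ext k
    obtain rfl | rfl := fin2_cases hij k <;> simp [hij, hij.symm]
  have hFd : coeff d f = F (d i) (d j) := by simp only [F, hd]
  rw [mul_comm, sub_mul, map_sub, map_sub, mul_assoc, coeff_X_mul, coeff_X_mul, coeff_C_mul, hh, hh, coeff_ser, hFd]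
  simp only [Finsupp.tsub_apply, Finsupp.single_eq_same,
    Finsupp.single_eq_of_ne hij, Finsupp.single_eq_of_ne hij.symm, tsub_zero]
  have key := hrec (d i) (d j)
  by_cases hj : d j = 0
  · simp only [hj] at key
    simp [hj]
    linear_combination key
  · by_cases hi : d i = 0
    · simp only [hi] at key
      simp [hi, hj]
      linear_combination key
    · have h1 : 1 ≤ d i := by omega
      have h2 : 1 ≤ d j := by omega
      simp [hi, hj, h1, h2, show d i - 1 + 1 = d i by omega, show d j - 1 + 1 = d j by omega]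
      linear_combination key

end Groth.Agent.CAlg9.Node
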