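import Groth.Agent.CAlg9.Node.Gauss
import Groth.Agent.E4O.DvrDom
import Groth.Agent.SGA3a.FiniteComplete
import Mathlib.RingTheory.Localization.FractionRing
import Mathlib.RingTheory.MvPowerSeries.NoZeroDivisors
import Mathlib.RingTheory.PowerSeries.NoZeroDivisors

/-!
The node ring over a complete Noetherian local domain is a domain, and the primes of the node ring
lying over a prime of the base.
-/

set_option autoImplicit false
universe u

open MvPowerSeries

namespace Groth.Agent.CAlg9.Node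

variable {R : Type u} [CommRing R]

theorem eq_zero_or_eq_zero_of_mul_mem [IsDomain R] [IsNoetherianRing R] [IsLocalRing R]
    (i j : Fin 2) (hij : i ≠ j) (r : R) (hr : r ∈ IsLocalRing.maximalIdeal R) (hr0 : r ≠ 0)
    (a b : ℤ → R) (hab : ser i j a * ser i j b ∈
      Ideal.span {(X i * X j - C r : MvPowerSeries (Fin 2) R)}) :
    (∀ k, a k = 0) ∨ (∀ k, b k = 0) := by
  by_contra hcon
  simp only [not_or, not_forall] at hcon
  obtain ⟨⟨k₁, hk₁⟩, ⟨k₂, hk₂⟩⟩ := hcon
  have hR : ¬ IsField R := fun h => hr0 (by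
    have := h.isDomain
    by_contra hne
    obtain ⟨y, hy⟩ := h.mul_inv_cancel hne
    exact (IsLocalRing.mem_maximalIdeal _).1 hr (isUnit_iff_exists.2 ⟨y, hy, by rw [mul_comm, hy]⟩))
  obtain ⟨V, hV, hVR, hdom⟩ := E4O.exists_dvr_dominating (R := R) hR (FractionRing R) (FractionRing R)
    ⟨∅, by simp [Subsingleton.elim (IntermediateField.adjoin (FractionRing R) _) ⊤]⟩
  let ρ : R →+* V := (algebraMap R (FractionRing R)).codRestrict V hVR
  have hinj : Function.Injective ρ := fun a b h =>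
    IsFractionRing.injective R (FractionRing R) (congrArg Subtype.val h)
  have hρr : ρ r ∈ IsLocalRing.maximalIdeal V := by
    rw [ValuationSubring.valuation_lt_one_iff]; exact hdom r hr
  have hne : ∀ (c : ℤ → R) k, c k ≠ 0 → ρ (c k * r ^ (-k).toNat) ≠ 0 := fun c k h e =>
    mul_ne_zero h (pow_ne_zero _ hr0) (hinj (by rw [e, map_zero]))
  obtain ⟨t, ht⟩ := IsDiscreteValuationRing.exists_irreducible V
  have hmax := (IsDiscreteValuationRing.irreducible_iff_uniformizer t).1 ht
  have htr : t ∣ ρ r := by rw [← Ideal.mem_span_singleton, ← hmax]; exact hρr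
  have hdec : ∀ (c : ℤ → R) k, t ^ (-k).toNat ∣ ρ (c k * r ^ (-k).toNat) := fun c k => by
    rw [map_mul, map_pow]; exact (pow_dvd_pow_of_dvd htr _).mul_left _
  obtain ⟨ea, n, α, hα, hαn, hαmin, hαdec⟩ := exists_content ht _ ⟨k₁, hne a k₁ hk₁⟩ (hdec a)
  obtain ⟨eb, m, β, hβ, hβm, hβmin, hβdec⟩ := exists_content ht _ ⟨k₂, hne b k₂ hk₂⟩ (hdec b)
  generalize hMdef : ea + eb = M
  let π : V →+* V ⧸ Ideal.span {t} ^ (M + 1) := Ideal.Quotient.mk _
  have hπ : ∀ x, π x = 0 ↔ t ^ (M + 1) ∣ x := fun x => by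
    simp only [π, Ideal.Quotient.eq_zero_iff_mem, Ideal.span_singleton_pow, Ideal.mem_span_singleton]
  have hq : (π.comp ρ) r ^ (M + 1) = 0 := by
    rw [RingHom.comp_apply, ← map_pow, hπ]; exact pow_dvd_pow_of_dvd htr _
  have hbdd : ∀ (γ : ℤ → V) (e : ℕ), (∀ k, t ^ ((-k).toNat - e) ∣ γ k) →
      BddBelow (Function.support fun k => π (γ k)) := by
    intro γ e hγ
    refine ⟨-((M + 1 + e : ℕ) : ℤ), fun k hk => ?_⟩
    by_contra h
    exact hk ((hπ _).2 ((pow_dvd_pow t (by omega)).trans (hγ k)))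
  let α' := HahnSeries.ofSuppBddBelow _ (hbdd α ea hαdec)
  let β' := HahnSeries.ofSuppBddBelow _ (hbdd β eb hβdec)
  have hA : toLaurent (π.comp ρ) M i j hij r hq (ser i j a) = HahnSeries.C (π (t ^ ea)) * α' := by
    ext k
    rw [coeff_toLaurent_ser, HahnSeries.C_apply, HahnSeries.coeff_single_zero_mul,
      RingHom.comp_apply, hα, map_mul]
    rfl
  have hB : toLaurent (π.comp ρ) M i j hij r hq (ser i j b) = HahnSeries.C (π (t ^ eb)) * β' := by
    ext k
    rw [coeff_toLaurent_ser, HahnSeries.C_apply, HahnSeries.coeff_single_zero_mul,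
      RingHom.comp_apply, hβ, map_mul]
    rfl
  have hM := toLaurent_mul_eq (π.comp ρ) M i j hij r 0 hq _ _ (by simpa using hab)
  rw [hA, hB, mul_mul_mul_comm, ← map_mul HahnSeries.C, ← map_mul π] at hM
  have hM' := congrArg (fun z : LaurentSeries _ => z.coeff (n + m)) hM
  obtain ⟨c, hcu, hc⟩ := exists_isUnit_coeff_mul ht M α β n m hαn hβm hαmin hβmin α' β'
    (fun _ => rfl) (fun _ => rfl)
  simp only [HahnSeries.C_apply, HahnSeries.coeff_single_zero_mul, hc, map_zero,
    HahnSeries.coeff_zero] at hM'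
  change π (t ^ ea * t ^ eb) * π c = 0 at hM'
  rw [← map_mul, hπ, ← pow_add, hMdef] at hM'
  obtain ⟨y, hy⟩ := hM'
  rw [pow_succ, mul_assoc] at hy
  exact ht.not_isUnit
    (isUnit_of_dvd_unit ⟨y, mul_left_cancel₀ (pow_ne_zero _ ht.ne_zero) hy⟩ hcu)

theorem isDomain_node [IsDomain R] [IsNoetherianRing R] [IsLocalRing R]
    [IsAdicComplete (IsLocalRing.maximalIdeal R) R] (r : R)
    (hr : r ∈ IsLocalRing.maximalIdeal R) (hr0 : r ≠ 0) :
    IsDomain (MvPowerSeries (Fin 2) R ⧸ Ideal.span {(X 0 * X 1 - C r : MvPowerSeries (Fin 2) R)}) := by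
  have hne : Ideal.span {(X 0 * X 1 - C r : MvPowerSeries (Fin 2) R)} ≠ ⊤ := by
    intro h
    have h2 := Ideal.span_singleton_eq_top.1 h
    rw [MvPowerSeries.isUnit_iff_constantCoeff] at h2
    simp only [map_sub, map_mul, constantCoeff_X, mul_zero, constantCoeff_C, zero_sub,
      IsUnit.neg_iff] at h2
    exact hr h2
  have : Nontrivial (MvPowerSeries (Fin 2) R ⧸ Ideal.span {(X 0 * X 1 - C r : MvPowerSeries (Fin 2) R)}) :=
    Ideal.Quotient.nontrivial_iff.2 hne
  have : NoZeroDivisors (MvPowerSeries (Fin 2) R ⧸ Ideal.span {(X 0 * X 1 - C r : MvPowerSeries (Fin 2) R)}) := by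
    refine ⟨fun {a b} h => ?_⟩
    obtain ⟨f, rfl⟩ := Ideal.Quotient.mk_surjective a
    obtain ⟨g, rfl⟩ := Ideal.Quotient.mk_surjective b
    have h01 : (0 : Fin 2) ≠ 1 := by decide
    obtain ⟨c, hc⟩ := exists_ser 0 1 h01 r hr f
    obtain ⟨d, hd⟩ := exists_ser 0 1 h01 r hr g
    rw [Ideal.Quotient.eq.2 hc, Ideal.Quotient.eq.2 hd] at h ⊢
    rw [← map_mul, Ideal.Quotient.eq_zero_iff_mem] at h
    have hz : ∀ c' : ℤ → R, (∀ k, c' k = 0) → ser 0 1 c' = 0 := fun c' hc' => by
      ext e; simp [coeff_ser, hc']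
    rcases eq_zero_or_eq_zero_of_mul_mem 0 1 h01 r hr hr0 c d h with h0 | h0
    · exact Or.inl (by rw [hz _ h0, map_zero])
    · exact Or.inr (by rw [hz _ h0, map_zero])
  exact NoZeroDivisors.to_isDomain _

variable [IsNoetherianRing R]

/-- a series with all coefficients in an ideal lies in the extended ideal -/
theorem mem_map_C (p : Ideal R) {f : MvPowerSeries (Fin 2) R} (h : ∀ d, coeff d f ∈ p) :
    f ∈ p.map (C (σ := Fin 2)) := by
  obtain ⟨n, g, hg⟩ := Submodule.fg_iff_exists_fin_generating_family.1 (IsNoetherian.noetherian p)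
  have hc : ∀ d, ∃ c : Fin n → R, ∑ k, c k • g k = coeff d f := fun d =>
    (Submodule.mem_span_range_iff_exists_fun R).1 (by rw [hg]; exact h d)
  choose c hc using hc
  let F : Fin n → MvPowerSeries (Fin 2) R := fun k d => c d k
  have hf : f = ∑ k, C (g k) * F k := by
    ext d
    rw [map_sum, ← hc d]
    refine Finset.sum_congr rfl fun k _ => ?_
    rw [coeff_C_mul, smul_eq_mul, mul_comm]
    rfl
  rw [hf]
  refine sum_mem fun k _ => Ideal.mul_mem_right _ _ (Ideal.mem_map_of_mem _ ?_)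
  rw [← hg]
  exact Submodule.subset_span ⟨k, rfl⟩

theorem ker_map_mk (p : Ideal R) :
    RingHom.ker (MvPowerSeries.map (σ := Fin 2) (Ideal.Quotient.mk p)) = p.map (C (σ := Fin 2)) := by
  refine le_antisymm (fun f hf => mem_map_C p fun d => ?_) ?_
  · rw [← Ideal.Quotient.eq_zero_iff_mem, ← coeff_map]
    rw [RingHom.mem_ker.1 hf, map_zero]
  · rw [Ideal.map_le_iff_le_comap]
    intro x hx
    rw [Ideal.mem_comap, RingHom.mem_ker, map_C, Ideal.Quotient.eq_zero_iff_mem.2 hx, map_zero]

/-- for a prime `p` of the base not containing `r`, `pA` is prime -/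
theorem isPrime_map_of_notMem [IsLocalRing R] [IsAdicComplete (IsLocalRing.maximalIdeal R) R]
    (r : R) (hr : r ∈ IsLocalRing.maximalIdeal R) (p : Ideal R) [p.IsPrime] (hrp : r ∉ p) :
    (p.map ((Ideal.Quotient.mk (Ideal.span {(X 0 * X 1 - C r : MvPowerSeries (Fin 2) R)})).comp
      (C (σ := Fin 2)))).IsPrime := by
  have : IsLocalRing (R ⧸ p) := IsLocalRing.of_surjective' _ Ideal.Quotient.mk_surjective
  let θ := MvPowerSeries.map (σ := Fin 2) (Ideal.Quotient.mk p)
  have : IsAdicComplete (IsLocalRing.maximalIdeal (R ⧸ p)) (R ⧸ p) := by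
    rw [← IsLocalRing.map_maximalIdeal_of_surjective (Ideal.Quotient.mk p) Ideal.Quotient.mk_surjective]
    exact SGA3a.isAdicComplete_map_of_finite (A := R) (C := R ⧸ p)
  have hθ : Function.Surjective θ := fun F => by
    choose c hc using fun d => Ideal.Quotient.mk_surjective (I := p) (coeff d F)
    let f : MvPowerSeries (Fin 2) R := fun d => c d
    exact ⟨f, by ext d; rw [coeff_map]; exact hc d⟩
  let rel : MvPowerSeries (Fin 2) R := X 0 * X 1 - C r
  have hrel : θ rel = X 0 * X 1 - C (Ideal.Quotient.mk p r) := by simp [θ, rel]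
  have hdom := isDomain_node (Ideal.Quotient.mk p r)
    (by
      rw [← IsLocalRing.map_maximalIdeal_of_surjective _ Ideal.Quotient.mk_surjective]
      exact Ideal.mem_map_of_mem _ hr)
    (fun e => hrp (Ideal.Quotient.eq_zero_iff_mem.1 e))
  have hp' : (Ideal.span {θ rel}).IsPrime := by
    rw [hrel]; exact (Ideal.Quotient.isDomain_iff_prime _).1 hdom
  have hJ : (Ideal.span {θ rel}).comap θ = Ideal.span {rel} ⊔ p.map (C (σ := Fin 2)) := by
    rw [← Set.image_singleton, ← Ideal.map_span, Ideal.comap_map_of_surjective' θ hθ, ker_map_mk]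
  have hJp : (Ideal.span {rel} ⊔ p.map (C (σ := Fin 2))).IsPrime :=
    hJ ▸ Ideal.comap_isPrime θ _
  have := Ideal.map_isPrime_of_surjective (f := Ideal.Quotient.mk (Ideal.span {rel}))
    Ideal.Quotient.mk_surjective (I := Ideal.span {rel} ⊔ p.map (C (σ := Fin 2)))
    (by rw [Ideal.mk_ker]; exact le_sup_left)
  rwa [Ideal.map_sup, Ideal.map_quotient_self, bot_sup_eq, Ideal.map_map] at this

/-- for a prime `p` of the base containing `r`, `(p, X i)` is prime -/
theorem isPrime_map_sup_of_mem (r : R) (p : Ideal R) [p.IsPrime] (hrp : r ∈ p)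
    (i j : Fin 2) (hij : i ≠ j) :
    (p.map ((Ideal.Quotient.mk (Ideal.span {(X 0 * X 1 - C r : MvPowerSeries (Fin 2) R)})).comp
      (C (σ := Fin 2))) ⊔
      Ideal.span {Ideal.Quotient.mk (Ideal.span {(X 0 * X 1 - C r : MvPowerSeries (Fin 2) R)}) (X i)}).IsPrime := by
  classical
  let g : MvPowerSeries (Fin 2) R →+* PowerSeries (R ⧸ p) :=
    ((PowerSeries.constantCoeff (R := PowerSeries (R ⧸ p))).comp
      (PowerSeries.map (PowerSeries.map (Ideal.Quotient.mk p)))).comp (curry2 j i hij.symm)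
  have hg : ∀ f l, PowerSeries.coeff l (g f) = Ideal.Quotient.mk p (coeff (Finsupp.single j l) f) := by
    intro f l
    simp only [g, RingHom.comp_apply]
    rw [← PowerSeries.coeff_zero_eq_constantCoeff_apply, PowerSeries.coeff_map, PowerSeries.coeff_map,
      coeff_coeff_curry2]
    simp
  have hker : RingHom.ker g = p.map (C (σ := Fin 2)) ⊔ Ideal.span {X i} := by
    refine le_antisymm (fun f hf => ?_) (sup_le ?_ ?_)
    · let f₁ : MvPowerSeries (Fin 2) R := fun d => if d i = 0 then coeff d f else 0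
      have hf₁ : ∀ d, coeff d f₁ = if d i = 0 then coeff d f else 0 := fun d => rfl
      rw [← sub_add_cancel f f₁, add_comm]
      refine Submodule.add_mem_sup (mem_map_C p fun d => ?_) (Ideal.mem_span_singleton.2 ?_)
      · rw [hf₁]
        split_ifs with h
        · have hd : d = Finsupp.single j (d j) := by
            ext k
            obtain rfl | rfl := fin2_cases hij k <;> simp [h, hij, hij.symm]
          rw [← Ideal.Quotient.eq_zero_iff_mem, hd, ← hg, RingHom.mem_ker.1 hf, map_zero]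
        · exact zero_mem p
      · rw [X_dvd_iff]
        intro d hd
        rw [map_sub, hf₁, if_pos hd, sub_self]
    · rw [Ideal.map_le_iff_le_comap]
      intro x hx
      rw [Ideal.mem_comap, RingHom.mem_ker]
      ext l
      rw [hg, coeff_C, map_zero, apply_ite (Ideal.Quotient.mk p), map_zero,
        Ideal.Quotient.eq_zero_iff_mem.2 hx, ite_self]
    · rw [Ideal.span_singleton_le_iff_mem, RingHom.mem_ker]
      ext l
      rw [hg, coeff_X, if_neg, map_zero, map_zero]
      intro e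
      have := DFunLike.congr_fun e i
      simp [hij] at this
  have hJ : (p.map (C (σ := Fin 2)) ⊔ Ideal.span {(X i : MvPowerSeries (Fin 2) R)}).IsPrime :=
    hker ▸ RingHom.ker_isPrime g
  have hrel : Ideal.span {(X 0 * X 1 - C r : MvPowerSeries (Fin 2) R)} ≤
      p.map (C (σ := Fin 2)) ⊔ Ideal.span {X i} := by
    rw [Ideal.span_singleton_le_iff_mem, ← X_mul_X_eq hij]
    exact Ideal.sub_mem _ (Ideal.mem_sup_right (Ideal.mul_mem_right _ _ (Ideal.mem_span_singleton_self _)))
      (Ideal.mem_sup_left (Ideal.mem_map_of_mem _ hrp))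
  have := Ideal.map_isPrime_of_surjective
    (f := Ideal.Quotient.mk (Ideal.span {(X 0 * X 1 - C r : MvPowerSeries (Fin 2) R)}))
    Ideal.Quotient.mk_surjective (I := p.map (C (σ := Fin 2)) ⊔ Ideal.span {X i})
    (by rw [Ideal.mk_ker]; exact hrel)
  rwa [Ideal.map_sup, Ideal.map_map, Ideal.map_span, Set.image_singleton] at this

end Groth.Agent.CAlg9.Node
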