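import Groth.Agent.CAlg9.Node.Gauss
import Groth.Agent.An92.Rat.DvrInter
import Mathlib.RingTheory.Localization.BaseChange
import Mathlib.RingTheory.Localization.FractionRing
import Mathlib.RingTheory.TensorProduct.Maps

/-!
An element of the node ring `R[[x, y]]/(x y - r)` over a complete Noetherian normal local domain
that becomes a unit over the fraction field is a constant times a power of `x` or `y` times a unit.
-/

set_option autoImplicit false
universe u

open MvPowerSeries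
open scoped TensorProduct

namespace Groth.Agent.CAlg9.Node

variable {R : Type u} [CommRing R]

/-- `a k` scaled to the `X`-expansion -/
abbrev sc (r : R) (a : ℤ → R) (k : ℤ) : R := a k * r ^ (-k).toNat

theorem sc_neg_mul_sc_neg (r : R) (a b : ℤ → R) (n : ℤ) :
    sc r (fun k => a (-k)) (-n) * sc r (fun k => b (-k)) (- -n) = sc r a n * sc r b (-n) := by
  simp only [sc, neg_neg]; ring

theorem exists_valuationRing_hom [IsDomain R] (V : ValuationSubring (FractionRing R))
    (hV : ∀ a : R, algebraMap R (FractionRing R) a ∈ V) :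
    ∃ ρ : R →+* V, Function.Injective ρ ∧ ∀ a, (ρ a : FractionRing R) = algebraMap R _ a := by
  refine ⟨(algebraMap R (FractionRing R)).codRestrict V hV, fun a b h => ?_, fun a => rfl⟩
  exact IsFractionRing.injective R (FractionRing R) (congrArg Subtype.val h)

theorem map_mem_maximalIdeal [IsDomain R] [IsLocalRing R] (V : ValuationSubring (FractionRing R))
    (ρ : R →+* V) (hρ : ∀ a, (ρ a : FractionRing R) = algebraMap R _ a)
    (hdom : ∀ a ∈ IsLocalRing.maximalIdeal R, V.valuation (algebraMap R (FractionRing R) a) < 1)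
    {a : R} (ha : a ∈ IsLocalRing.maximalIdeal R) : ρ a ∈ IsLocalRing.maximalIdeal V := by
  rw [ValuationSubring.valuation_lt_one_iff, hρ]
  exact hdom a ha

/-- divisibility in a normal Noetherian local domain is tested on the dominating DVRs -/
theorem dvd_of_forall_dvr [IsDomain R] [IsNoetherianRing R] [IsLocalRing R] [IsIntegrallyClosed R]
    (hR : ¬ IsField R) {x y : R} (hx : x ≠ 0)
    (h : ∀ (V : ValuationSubring (FractionRing R)) (_ : IsDiscreteValuationRing V) (ρ : R →+* V),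
      Function.Injective ρ → (∀ a, (ρ a : FractionRing R) = algebraMap R _ a) →
      (∀ a ∈ IsLocalRing.maximalIdeal R, ρ a ∈ IsLocalRing.maximalIdeal V) → ρ x ∣ ρ y) :
    x ∣ y := by
  have hx' : algebraMap R (FractionRing R) x ≠ 0 := fun e =>
    hx (IsFractionRing.injective R _ (by rw [e, map_zero]))
  by_cases hmem : algebraMap R (FractionRing R) y / algebraMap R _ x ∈
      (algebraMap R (FractionRing R)).range
  · obtain ⟨z, hz⟩ := hmem
    refine ⟨z, IsFractionRing.injective R (FractionRing R) ?_⟩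
    rw [map_mul, hz, mul_div_cancel₀ _ hx']
  · obtain ⟨V, hV, hVR, hdom, hnot⟩ := An92.exists_dvr_notMem hR (FractionRing R) _ hmem
    obtain ⟨ρ, hinj, hρ⟩ := exists_valuationRing_hom V hVR
    obtain ⟨z, hz⟩ := h V hV ρ hinj hρ fun a ha => map_mem_maximalIdeal V ρ hρ hdom ha
    refine absurd ?_ hnot
    rw [← hρ x, ← hρ y, hz]
    simp only [MulMemClass.coe_mul]
    rw [mul_div_cancel_left₀ _ (by rw [hρ]; exact hx')]
    exact z.2

theorem sc_dvd [IsDomain R] [IsNoetherianRing R] [IsLocalRing R] [IsIntegrallyClosed R]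
    (hR : ¬ IsField R) (i j : Fin 2) (hij : i ≠ j) (r s : R)
    (hr : r ∈ IsLocalRing.maximalIdeal R) (hs : s ≠ 0) (a b : ℤ → R)
    (hab : ser i j a * ser i j b - C s ∈ Ideal.span {(X i * X j - C r : MvPowerSeries (Fin 2) R)})
    (n : ℤ) (hn : Associated s (sc r a n * sc r b (-n))) (k : ℤ) : sc r a n ∣ sc r a k := by
  obtain ⟨u, hu⟩ := hn
  have hne : sc r a n ≠ 0 := fun e => hs (by
    rw [e, zero_mul] at hu
    exact u.mul_left_eq_zero.1 hu)
  refine dvd_of_forall_dvr hR hne fun V _ ρ hinj _ hmax => ?_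
  have hρs : ρ s ≠ 0 := fun e => hs (hinj (by rw [e, map_zero]))
  obtain ⟨m, hma, hmb, hm⟩ := gauss ρ i j hij r s (hmax r hr) hρs a b hab
  obtain ⟨x, hx⟩ := hma n
  obtain ⟨y, hy⟩ := hmb (-n)
  obtain ⟨v, hv⟩ := hm
  change ρ (sc r a n) = ρ (sc r a m) * x at hx
  change ρ (sc r b (-n)) = ρ (sc r b (-m)) * y at hy
  have h1 := congrArg ρ hu
  rw [map_mul, map_mul, hx, hy] at h1
  change ρ s * (v : V) = ρ (sc r a m) * ρ (sc r b (-m)) at hv
  have h2 : ρ s * ρ (u : R) = ρ s * ((v : V) * x * y) := by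
    rw [h1]; linear_combination -(x * y) * hv
  have hxu : IsUnit x := by
    have := mul_left_cancel₀ hρs h2
    have h3 : IsUnit ((v : V) * x * y) := this ▸ u.isUnit.map ρ
    exact isUnit_of_mul_isUnit_right (isUnit_of_mul_isUnit_left h3)
  change ρ (sc r a n) ∣ ρ (sc r a k)
  rw [hx]
  exact (IsUnit.mul_right_dvd hxu).2 (hma k)

theorem exists_index [IsDomain R] [IsNoetherianRing R] [IsLocalRing R] [IsIntegrallyClosed R]
    (hR : ¬ IsField R) (i j : Fin 2) (hij : i ≠ j) (r s : R)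
    (hr : r ∈ IsLocalRing.maximalIdeal R) (hs : s ≠ 0) (a b : ℤ → R)
    (hab : ser i j a * ser i j b - C s ∈ Ideal.span {(X i * X j - C r : MvPowerSeries (Fin 2) R)}) :
    ∃ n : ℤ, Associated s (sc r a n * sc r b (-n)) := by
  obtain ⟨V, hV, hVR, hdom⟩ := E4O.exists_dvr_dominating (R := R) hR (FractionRing R) (FractionRing R)
    ⟨∅, by simp [Subsingleton.elim (IntermediateField.adjoin (FractionRing R) _) ⊤]⟩
  obtain ⟨ρ, hinj, hρ⟩ := exists_valuationRing_hom V hVR
  have hmax : ∀ a ∈ IsLocalRing.maximalIdeal R, ρ a ∈ IsLocalRing.maximalIdeal V :=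
    fun a ha => map_mem_maximalIdeal V ρ hρ hdom ha
  have hρs : ρ s ≠ 0 := fun e => hs (hinj (by rw [e, map_zero]))
  obtain ⟨n, -, -, hn⟩ := gauss ρ i j hij r s (hmax r hr) hρs a b hab
  obtain ⟨z, hz⟩ : s ∣ sc r a n * sc r b (-n) := by
    refine dvd_of_forall_dvr hR hs fun W _ σ hσ _ hσmax => ?_
    have hσs : σ s ≠ 0 := fun e => hs (hσ (by rw [e, map_zero]))
    obtain ⟨m, hma, hmb, hm⟩ := gauss σ i j hij r s (hσmax r hr) hσs a b hab
    rw [map_mul]
    exact hm.dvd.trans (mul_dvd_mul (hma n) (hmb (-n)))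
  refine ⟨n, ?_⟩
  rw [hz]
  by_cases hzu : IsUnit z
  · exact (associated_mul_unit_right s z hzu)
  · exfalso
    obtain ⟨v, hv⟩ := hn
    change ρ s * (v : V) = ρ (sc r a n) * ρ (sc r b (-n)) at hv
    rw [← map_mul, hz, map_mul] at hv
    have := mul_left_cancel₀ hρs hv
    exact (IsLocalRing.mem_maximalIdeal _).1 (hmax z hzu) (this ▸ v.isUnit)

theorem exists_unit_of_dvd [IsDomain R] (i j : Fin 2) (hij : i ≠ j) (r : R)
    (hr : r ≠ 0) (c : ℤ → R) (n : ℕ) (hcn : c n ≠ 0)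
    (h1 : ∀ k, sc r c n ∣ sc r c k)
    (h2 : ∀ k, sc r (fun l => c (-l)) (-n) ∣ sc r (fun l => c (-l)) k) :
    ∃ u : (MvPowerSeries (Fin 2) R ⧸ Ideal.span {(X i * X j - C r : MvPowerSeries (Fin 2) R)})ˣ,
      Ideal.Quotient.mk (Ideal.span {(X i * X j - C r : MvPowerSeries (Fin 2) R)}) (ser i j c) =
        Ideal.Quotient.mk (Ideal.span {(X i * X j - C r : MvPowerSeries (Fin 2) R)})
          (C (c n) * X i ^ n) *
            (u : MvPowerSeries (Fin 2) R ⧸ Ideal.span {(X i * X j - C r : MvPowerSeries (Fin 2) R)}) := by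
  have hq : ∀ k, ∃ q, c k = c n * q * r ^ (min n ((n : ℤ) - k).toNat) := by
    intro k
    by_cases hk : (n : ℤ) ≤ k
    · obtain ⟨q, hq⟩ := h1 k
      refine ⟨q, ?_⟩
      simp only [sc, show (-(n : ℤ)).toNat = 0 by omega, show (-k).toNat = 0 by omega, pow_zero,
        mul_one] at hq
      rw [show min n ((n : ℤ) - k).toNat = 0 by omega, pow_zero, mul_one, hq]
    · obtain ⟨q, hq⟩ := h2 (-k)
      simp only [sc, neg_neg, show ((n : ℤ)).toNat = n by omega] at hq
      refine ⟨q, mul_right_cancel₀ (pow_ne_zero k.toNat hr) ?_⟩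
      rw [mul_assoc _ (r ^ _) (r ^ _), ← pow_add, show min n ((n : ℤ) - k).toNat + k.toNat = n by omega,
        hq]
      ring
  choose q hq using hq
  let u' : ℤ → R := fun k => q (k + n)
  have hu0 : u' 0 = 1 := by
    have := hq n
    simp only [sub_self, Int.toNat_zero, min_eq_right (Nat.zero_le n), pow_zero, mul_one] at this
    simp only [u', zero_add]
    exact (mul_left_cancel₀ hcn (this.symm.trans (mul_one _).symm))
  have hU : IsUnit (ser i j u') := by
    rw [MvPowerSeries.isUnit_iff_constantCoeff, ← coeff_zero_eq_constantCoeff_apply, coeff_ser]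
    simp [hu0]
  refine ⟨(hU.map (Ideal.Quotient.mk _)).unit, ?_⟩
  rw [IsUnit.unit_spec, ← map_mul, mul_assoc, map_mul (Ideal.Quotient.mk _) (C (c n)),
    mk_X_pow_mul_ser i j hij r u' n, ← map_mul, C_mul_ser]
  congr 2
  funext k
  simp only [u', sub_add_cancel]
  rw [hq k]; ring

theorem exists_mul_eq_C [IsDomain R] {J : Ideal (MvPowerSeries (Fin 2) R)}
    (a : MvPowerSeries (Fin 2) R ⧸ J)
    (ha : IsUnit (a ⊗ₜ[R] (1 : FractionRing R) : (MvPowerSeries (Fin 2) R ⧸ J) ⊗[R] FractionRing R)) :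
    ∃ (b : MvPowerSeries (Fin 2) R ⧸ J) (s : R), s ≠ 0 ∧ a * b = Ideal.Quotient.mk J (C s) := by
  have ha' : IsUnit ((1 : FractionRing R) ⊗ₜ[R] a : FractionRing R ⊗[R] (MvPowerSeries (Fin 2) R ⧸ J)) := by
    have := ha.map (Algebra.TensorProduct.comm R (MvPowerSeries (Fin 2) R ⧸ J) (FractionRing R))
    rwa [Algebra.TensorProduct.comm_tmul] at this
  obtain ⟨z, hz⟩ := ha'.exists_right_inv
  obtain ⟨⟨b, s⟩, hb⟩ := IsLocalizedModule.surj (nonZeroDivisors R)
    (TensorProduct.mk R (FractionRing R) (MvPowerSeries (Fin 2) R ⧸ J) 1) z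
  rw [TensorProduct.mk_apply, Submonoid.smul_def] at hb
  have key : TensorProduct.mk R (FractionRing R) (MvPowerSeries (Fin 2) R ⧸ J) 1 (a * b) =
      TensorProduct.mk R (FractionRing R) _ 1 ((s : R) • 1) := by
    rw [TensorProduct.mk_apply, TensorProduct.mk_apply, TensorProduct.tmul_smul,
      ← Algebra.TensorProduct.one_def, ← hz, ← mul_smul_comm, hb,
      Algebra.TensorProduct.tmul_mul_tmul, one_mul]
  obtain ⟨t, ht⟩ := (IsLocalizedModule.eq_iff_exists (nonZeroDivisors R) _).1 key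
  rw [Submonoid.smul_def, Submonoid.smul_def] at ht
  refine ⟨(t : R) • b, (t : R) * s, mul_ne_zero (nonZeroDivisors.ne_zero t.2)
    (nonZeroDivisors.ne_zero s.2), ?_⟩
  rw [mul_smul_comm, ht, smul_smul, ← Algebra.algebraMap_eq_smul_one]
  rfl

theorem factor [IsDomain R] [IsNoetherianRing R] [IsLocalRing R] [IsIntegrallyClosed R]
    [IsAdicComplete (IsLocalRing.maximalIdeal R) R]
    (r : R) (hr : r ≠ 0)
    (a : (MvPowerSeries (Fin 2) R ⧸ Ideal.span {(X 0 * X 1 - C r : MvPowerSeries (Fin 2) R)}))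
    (ha : IsUnit (a ⊗ₜ[R] (1 : FractionRing R) :
      (MvPowerSeries (Fin 2) R ⧸ Ideal.span {(X 0 * X 1 - C r : MvPowerSeries (Fin 2) R)}) ⊗[R] FractionRing R)) :
    ∃ (s : R) (m n : ℕ) (u : (MvPowerSeries (Fin 2) R ⧸ Ideal.span {(X 0 * X 1 - C r : MvPowerSeries (Fin 2) R)})ˣ),
      m * n = 0 ∧ a = Ideal.Quotient.mk _ (C s * X 0 ^ n * X 1 ^ m) * (u : (MvPowerSeries (Fin 2) R ⧸ Ideal.span {(X 0 * X 1 - C r : MvPowerSeries (Fin 2) R)})) := by
  by_cases hru : IsUnit r
  · have hI : Ideal.span {(X 0 * X 1 - C r : MvPowerSeries (Fin 2) R)} = ⊤ := by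
      rw [Ideal.span_singleton_eq_top, MvPowerSeries.isUnit_iff_constantCoeff]
      simpa using hru.neg
    have : Subsingleton (MvPowerSeries (Fin 2) R ⧸
        Ideal.span {(X 0 * X 1 - C r : MvPowerSeries (Fin 2) R)}) :=
      Ideal.Quotient.subsingleton_iff.2 hI
    exact ⟨0, 0, 0, 1, rfl, Subsingleton.elim _ _⟩
  have hrm : r ∈ IsLocalRing.maximalIdeal R := hru
  have hR : ¬ IsField R := fun h => hru (isUnit_iff_exists.2 (by
    obtain ⟨y, hy⟩ := h.mul_inv_cancel hr
    exact ⟨y, hy, by rw [mul_comm, hy]⟩))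
  obtain ⟨b, s, hs, hab⟩ := exists_mul_eq_C a ha
  obtain ⟨f, rfl⟩ := Ideal.Quotient.mk_surjective a
  obtain ⟨g, rfl⟩ := Ideal.Quotient.mk_surjective b
  have h01 : (0 : Fin 2) ≠ 1 := by decide
  obtain ⟨c, hc⟩ := exists_ser 0 1 h01 r hrm f
  obtain ⟨d, hd⟩ := exists_ser 0 1 h01 r hrm g
  have hcd : ser 0 1 c * ser 0 1 d - C s ∈
      Ideal.span {(X 0 * X 1 - C r : MvPowerSeries (Fin 2) R)} := by
    rw [← Ideal.Quotient.eq, map_mul, ← Ideal.Quotient.eq.2 hc, ← Ideal.Quotient.eq.2 hd]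
    exact hab
  have hcd' : ser 1 0 (fun k => c (-k)) * ser 1 0 (fun k => d (-k)) - C s ∈
      Ideal.span {(X 1 * X 0 - C r : MvPowerSeries (Fin 2) R)} := by
    rw [ser_swap, ser_swap, X_mul_X_eq h01.symm]; exact hcd
  obtain ⟨n, hn⟩ := exists_index hR 0 1 h01 r s hrm hs c d hcd
  have hn' : Associated s (sc r (fun k => c (-k)) (-n) * sc r (fun k => d (-k)) (- -n)) := by
    rwa [sc_neg_mul_sc_neg]
  have h1 := sc_dvd hR 0 1 h01 r s hrm hs c d hcd n hn
  have h2 := sc_dvd hR 1 0 h01.symm r s hrm hs _ _ hcd' (-n) hn'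
  have hcn : c n ≠ 0 := fun e => by
    obtain ⟨u, hu⟩ := hn
    rw [sc, e, zero_mul, zero_mul] at hu
    exact hs (u.mul_left_eq_zero.1 hu)
  rcases Int.eq_nat_or_neg n with ⟨p, rfl | rfl⟩
  · obtain ⟨u, hu⟩ := exists_unit_of_dvd 0 1 h01 r hr c p hcn h1 h2
    refine ⟨c p, 0, p, u, zero_mul _, ?_⟩
    rw [pow_zero, mul_one, Ideal.Quotient.eq.2 hc]
    exact hu
  · simp only [neg_neg] at h2
    have hswap : (fun l => (fun k => c (-k)) (-l)) = c := by funext l; simp
    obtain ⟨u, hu⟩ := exists_unit_of_dvd 1 0 h01.symm r hr (fun k => c (-k)) p (by simpa using hcn) h2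
      (by simpa [hswap] using h1)
    rw [ser_swap] at hu
    let e := Ideal.quotEquivOfEq (show Ideal.span {(X 1 * X 0 - C r : MvPowerSeries (Fin 2) R)} =
      Ideal.span {(X 0 * X 1 - C r : MvPowerSeries (Fin 2) R)} by rw [X_mul_X_eq h01.symm])
    refine ⟨c (-p), p, 0, Units.map e.toRingHom.toMonoidHom u, mul_zero _, ?_⟩
    rw [pow_zero, mul_one, Ideal.Quotient.eq.2 hc]
    have := congrArg e hu
    rw [map_mul, Ideal.quotEquivOfEq_mk, Ideal.quotEquivOfEq_mk] at this
    simpa using this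

end Groth.Agent.CAlg9.Node
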