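import Groth.Agent.CAlg9.Node.Coord
import Mathlib.RingTheory.LaurentSeries
import Mathlib.RingTheory.PowerSeries.Trunc
import Mathlib.RingTheory.DiscreteValuationRing.Basic
import Mathlib.RingTheory.Filtration
import Mathlib.Data.Finsupp.Antidiagonal
import Mathlib.Data.Int.LeastGreatest

/-!
Gauss lemma for the node ring: if the product of two axis series is a constant `s` modulo
`x y - r`, then for every discrete valuation the scaled coordinates have mutually opposite
dominant indices.
-/

set_option autoImplicit false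
universe u v w

open MvPowerSeries

namespace Groth.Agent.CAlg9.Node

variable {R : Type u} [CommRing R]

/-- a series in two variables as an iterated series, `j` being the outer variable -/
noncomputable def curry2 (i j : Fin 2) (hij : i ≠ j) :
    MvPowerSeries (Fin 2) R →+* PowerSeries (PowerSeries R) where
  toFun f := PowerSeries.mk fun l => PowerSeries.mk fun p =>
    coeff (Finsupp.single i p + Finsupp.single j l) f
  map_zero' := by ext; simp
  map_add' f g := by ext; simp
  map_one' := by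
    classical
    ext l p
    simp only [PowerSeries.coeff_mk, MvPowerSeries.coeff_one, PowerSeries.coeff_one]
    have : Finsupp.single i p + Finsupp.single j l = 0 ↔ l = 0 ∧ p = 0 := by
      constructor
      · intro h
        have h1 := DFunLike.congr_fun h i
        have h2 := DFunLike.congr_fun h j
        simp [hij, hij.symm] at h1 h2
        exact ⟨h2, h1⟩
      · rintro ⟨rfl, rfl⟩; simp
    by_cases hl : l = 0 <;> simp [this, hl]
  map_mul' f g := by
    classical
    ext l p
    simp only [PowerSeries.coeff_mk, PowerSeries.coeff_mul, MvPowerSeries.coeff_mul, map_sum,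
      ← Finset.sum_product']
    refine Finset.sum_nbij' (fun x => ((x.1 j, x.2 j), (x.1 i, x.2 i)))
      (fun y => (Finsupp.single i y.2.1 + Finsupp.single j y.1.1,
        Finsupp.single i y.2.2 + Finsupp.single j y.1.2)) ?_ ?_ ?_ ?_ ?_
    · intro x hx
      rw [Finset.HasAntidiagonal.mem_antidiagonal] at hx
      have h1 := DFunLike.congr_fun hx i
      have h2 := DFunLike.congr_fun hx j
      simp [hij, hij.symm] at h1 h2
      simp [Finset.mem_product, h1, h2]
    · intro y hy
      simp only [Finset.mem_product, Finset.HasAntidiagonal.mem_antidiagonal] at hy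
      rw [Finset.HasAntidiagonal.mem_antidiagonal]
      ext k
      obtain rfl | rfl := fin2_cases hij k <;> simp [hij, hij.symm, hy.1, hy.2]
    · intro x hx
      refine Prod.ext ?_ ?_ <;> ext k <;> obtain rfl | rfl := fin2_cases hij k <;>
        simp [hij, hij.symm]
    · intro y hy
      simp [hij, hij.symm]
    · intro x hx
      have he : ∀ d : Fin 2 →₀ ℕ, Finsupp.single i (d i) + Finsupp.single j (d j) = d := fun d => by
        ext k
        obtain rfl | rfl := fin2_cases hij k <;> simp [hij, hij.symm]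
      simp [he]

theorem coeff_coeff_curry2 (i j : Fin 2) (hij : i ≠ j) (f : MvPowerSeries (Fin 2) R) (l p : ℕ) :
    PowerSeries.coeff p (PowerSeries.coeff l (curry2 i j hij f)) =
      coeff (Finsupp.single i p + Finsupp.single j l) f := by
  simp [curry2]

/-- evaluation of a power series at a nilpotent element -/
noncomputable def nilEval {B : Type v} [CommRing B] (y : B) (M : ℕ) (hy : y ^ (M + 1) = 0) :
    PowerSeries B →+* B where
  toFun f := (PowerSeries.trunc (M + 1) f).eval y
  map_zero' := by simp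
  map_one' := by rw [PowerSeries.trunc_one, Polynomial.eval_one]
  map_add' f g := by simp
  map_mul' f g := by
    rw [← PowerSeries.trunc_trunc_mul_trunc, ← Polynomial.coe_mul, ← Polynomial.eval_mul]
    have hd : ∀ p : Polynomial B, (PowerSeries.trunc (M + 1) (p : PowerSeries B)).eval y = p.eval y := by
      intro p
      have : Polynomial.X ^ (M + 1) ∣ p - PowerSeries.trunc (M + 1) (p : PowerSeries B) := by
        rw [Polynomial.X_pow_dvd_iff]
        intro d hd
        rw [Polynomial.coeff_sub, PowerSeries.coeff_trunc, if_pos hd, Polynomial.coeff_coe, sub_self]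
      obtain ⟨q, hq⟩ := this
      have := congrArg (Polynomial.eval y) hq
      rw [Polynomial.eval_sub, Polynomial.eval_mul, Polynomial.eval_pow, Polynomial.eval_X, hy,
        zero_mul, sub_eq_zero] at this
      exact this.symm
    rw [hd]

theorem nilEval_apply {B : Type v} [CommRing B] (y : B) (M : ℕ) (hy : y ^ (M + 1) = 0)
    (f : PowerSeries B) :
    nilEval y M hy f = ∑ l ∈ Finset.range (M + 1), PowerSeries.coeff l f * y ^ l := by
  show (PowerSeries.trunc (M + 1) f).eval y = _
  rw [Polynomial.eval_eq_sum_range' (PowerSeries.natDegree_trunc_lt f M)]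
  exact Finset.sum_congr rfl fun l hl => by
    rw [PowerSeries.coeff_trunc, if_pos (Finset.mem_range.1 hl)]

section

variable {Q : Type v} [CommRing Q] (ψ : R →+* Q) (M : ℕ)

theorem single_pow_eq_zero {q : Q} (hq : q ^ (M + 1) = 0) :
    (HahnSeries.single (-1 : ℤ) q : LaurentSeries Q) ^ (M + 1) = 0 := by
  rw [HahnSeries.single_pow, hq, map_zero]

/-- `i`-th variable to `X`, `j`-th variable to `r X⁻¹` -/
noncomputable def toLaurent (i j : Fin 2) (hij : i ≠ j) (r : R) (hq : ψ r ^ (M + 1) = 0) :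
    MvPowerSeries (Fin 2) R →+* LaurentSeries Q :=
  ((nilEval _ M (single_pow_eq_zero M hq)).comp
    (PowerSeries.map ((HahnSeries.ofPowerSeries ℤ Q).comp (PowerSeries.map ψ)))).comp
    (curry2 i j hij)

theorem coeff_toLaurent (i j : Fin 2) (hij : i ≠ j) (r : R) (hq : ψ r ^ (M + 1) = 0)
    (f : MvPowerSeries (Fin 2) R) (k : ℤ) :
    (toLaurent ψ M i j hij r hq f).coeff k = ∑ l ∈ Finset.range (M + 1),
      if 0 ≤ k + l then
        ψ (coeff (Finsupp.single i (k + l).toNat + Finsupp.single j l) f) * ψ r ^ l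
      else 0 := by
  rw [toLaurent, RingHom.comp_apply, RingHom.comp_apply, nilEval_apply, HahnSeries.coeff_sum]
  refine Finset.sum_congr rfl fun l _ => ?_
  have hk : k = (k + l) + l • (-1 : ℤ) := by simp
  conv_lhs => rw [hk]
  rw [HahnSeries.single_pow, HahnSeries.coeff_mul_single_add, PowerSeries.coeff_map,
    RingHom.comp_apply, PowerSeries.coeff_coe]
  by_cases h : 0 ≤ k + l
  · rw [if_neg (not_lt.2 h), if_pos h, PowerSeries.coeff_map, coeff_coeff_curry2,
      show (k + l).natAbs = (k + l).toNat by omega]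
  · rw [if_pos (not_le.1 h), if_neg h, zero_mul]

theorem single_add_single_eq (i j : Fin 2) (hij : i ≠ j) (p l a b : ℕ) :
    (Finsupp.single i p + Finsupp.single j l = Finsupp.single i a + Finsupp.single j b) ↔
      (p = a ∧ l = b) := by
  constructor
  · intro h
    have e1 := DFunLike.congr_fun h i
    have e2 := DFunLike.congr_fun h j
    simp [hij, hij.symm] at e1 e2
    exact ⟨e1, e2⟩
  · rintro ⟨rfl, rfl⟩; rfl

theorem toLaurent_C (i j : Fin 2) (hij : i ≠ j) (r : R) (hq : ψ r ^ (M + 1) = 0) (x : R) :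
    toLaurent ψ M i j hij r hq (C x) = HahnSeries.C (ψ x) := by
  classical
  have hC : curry2 i j hij (C x) = PowerSeries.C (PowerSeries.C x) := by
    ext l p
    have := single_add_single_eq i j hij p l 0 0
    simp only [Finsupp.single_zero, zero_add] at this
    rw [coeff_coeff_curry2, coeff_C, PowerSeries.coeff_C]
    by_cases hl : l = 0
    · subst hl
      simp only [Finsupp.single_zero, add_zero] at this
      simp [this, PowerSeries.coeff_C]
    · simp [this, hl]
  have hevC : ∀ z, nilEval _ M (single_pow_eq_zero M hq) (PowerSeries.C z) = z := fun z => by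
    rw [nilEval_apply, Finset.sum_range_succ']
    simp [PowerSeries.coeff_C]
  rw [toLaurent, RingHom.comp_apply, RingHom.comp_apply, hC, PowerSeries.map_C, hevC,
    RingHom.comp_apply, PowerSeries.map_C, HahnSeries.ofPowerSeries_C]

theorem toLaurent_X_fst (i j : Fin 2) (hij : i ≠ j) (r : R) (hq : ψ r ^ (M + 1) = 0) :
    toLaurent ψ M i j hij r hq (X i) = HahnSeries.single (1 : ℤ) (1 : Q) := by
  classical
  have hi : curry2 (R := R) i j hij (X i) = PowerSeries.C PowerSeries.X := by
    ext l p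
    have := single_add_single_eq i j hij p l 1 0
    simp only [Finsupp.single_zero, add_zero] at this
    rw [coeff_coeff_curry2, coeff_X, PowerSeries.coeff_C]
    by_cases hl : l = 0
    · subst hl
      simp only [Finsupp.single_zero, add_zero] at this
      simp [this, PowerSeries.coeff_X]
    · simp [this, hl]
  have hevC : ∀ z, nilEval _ M (single_pow_eq_zero M hq) (PowerSeries.C z) = z := fun z => by
    rw [nilEval_apply, Finset.sum_range_succ']
    simp [PowerSeries.coeff_C]
  rw [toLaurent, RingHom.comp_apply, RingHom.comp_apply, hi, PowerSeries.map_C, hevC,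
    RingHom.comp_apply, PowerSeries.map_X, HahnSeries.ofPowerSeries_X]

theorem toLaurent_X_snd (i j : Fin 2) (hij : i ≠ j) (r : R) (hq : ψ r ^ (M + 1) = 0) :
    toLaurent ψ M i j hij r hq (X j) = HahnSeries.single (-1 : ℤ) (ψ r) := by
  classical
  have hj : curry2 (R := R) i j hij (X j) = PowerSeries.X := by
    ext l p
    have := single_add_single_eq i j hij p l 0 1
    simp only [Finsupp.single_zero, zero_add] at this
    rw [coeff_coeff_curry2, coeff_X, PowerSeries.coeff_X]
    by_cases hl : l = 1 <;> simp [this, hl, PowerSeries.coeff_one]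
  rw [toLaurent, RingHom.comp_apply, RingHom.comp_apply, hj, PowerSeries.map_X, nilEval_apply]
  rcases M with _ | M
  · have h0 : ψ r = 0 := by simpa using hq
    simp [h0]
  · rw [Finset.sum_eq_single 1]
    · simp
    · intro l _ hl; simp [PowerSeries.coeff_X, hl]
    · simp

theorem toLaurent_rel (i j : Fin 2) (hij : i ≠ j) (r : R) (hq : ψ r ^ (M + 1) = 0) :
    toLaurent ψ M i j hij r hq (X i * X j - C r) = 0 := by
  rw [map_sub, map_mul, toLaurent_X_fst, toLaurent_X_snd, toLaurent_C,
    HahnSeries.single_mul_single, HahnSeries.C_apply]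
  simp

theorem toLaurent_mul_eq (i j : Fin 2) (hij : i ≠ j) (r s : R) (hq : ψ r ^ (M + 1) = 0)
    (f g : MvPowerSeries (Fin 2) R)
    (hfg : f * g - C s ∈ Ideal.span {(X i * X j - C r : MvPowerSeries (Fin 2) R)}) :
    toLaurent ψ M i j hij r hq f * toLaurent ψ M i j hij r hq g = HahnSeries.C (ψ s) := by
  obtain ⟨h, hh⟩ := Ideal.mem_span_singleton'.1 hfg
  have := congrArg (toLaurent ψ M i j hij r hq) hh
  rwa [map_mul, toLaurent_rel, mul_zero, map_sub, map_mul, toLaurent_C, eq_comm, sub_eq_zero] at this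

theorem coeff_toLaurent_ser (i j : Fin 2) (hij : i ≠ j) (r : R) (hq : ψ r ^ (M + 1) = 0)
    (c : ℤ → R) (k : ℤ) :
    (toLaurent ψ M i j hij r hq (ser i j c)).coeff k = ψ (c k * r ^ (-k).toNat) := by
  classical
  rw [coeff_toLaurent, map_mul, map_pow]
  simp only [coeff_ser, Finsupp.add_apply, Finsupp.single_eq_same, Finsupp.single_eq_of_ne hij,
    Finsupp.single_eq_of_ne hij.symm, zero_add, add_zero]
  rw [Finset.sum_eq_single (-k).toNat]
  · rw [if_pos (by omega : (0 : ℤ) ≤ k + ((-k).toNat : ℤ))]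
    by_cases hk : 0 ≤ k
    · rw [if_pos (by omega : (-k).toNat = 0), Int.toNat_of_nonneg (by omega)]
      rw [show (k + ((-k).toNat : ℤ)) = k by omega]
    · rw [if_neg (by omega : (-k).toNat ≠ 0), if_pos (by omega : (k + ((-k).toNat : ℤ)).toNat = 0)]
      rw [show -(((-k).toNat : ℕ) : ℤ) = k by omega]
  · intro l _ hl
    by_cases h : 0 ≤ k + l
    · rw [if_pos h]
      by_cases hl0 : l = 0
      · subst hl0
        omega
      · rw [if_neg hl0, if_neg (by omega), map_zero, zero_mul]
    · rw [if_neg h]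
  · intro h
    rw [Finset.mem_range, not_lt] at h
    rw [pow_eq_zero_of_le h hq]
    simp

end

/-- the content decomposition of a family with decaying valuations -/
theorem exists_content {O : Type v} [CommRing O] [IsDomain O] [IsDiscreteValuationRing O]
    {t : O} (ht : Irreducible t) (A : ℤ → O) (hA : ∃ k, A k ≠ 0)
    (hdec : ∀ k, t ^ (-k).toNat ∣ A k) :
    ∃ (e : ℕ) (n : ℤ) (α : ℤ → O), (∀ k, A k = t ^ e * α k) ∧ IsUnit (α n) ∧
      (∀ k < n, ¬ IsUnit (α k)) ∧ ∀ k, t ^ ((-k).toNat - e) ∣ α k := by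
  classical
  have hex : ∃ e, ∃ k, ¬ t ^ (e + 1) ∣ A k := by
    obtain ⟨k, hk⟩ := hA
    obtain ⟨e, x, hx⟩ := IsDiscreteValuationRing.eq_unit_mul_pow_irreducible hk ht
    refine ⟨e, k, fun ⟨y, hy⟩ => ht.not_isUnit ?_⟩
    rw [hx, pow_succ] at hy
    have : (x : O) = t * y := mul_right_cancel₀ (pow_ne_zero e ht.ne_zero) (by rw [hy]; ring)
    exact isUnit_of_mul_isUnit_left (this ▸ x.isUnit)
  let e := Nat.find hex
  have hdvd : ∀ k, t ^ e ∣ A k := by
    intro k
    rcases Nat.eq_zero_or_pos e with h0 | hpos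
    · rw [h0, pow_zero]; exact one_dvd _
    · have := Nat.find_min hex (show e - 1 < Nat.find hex by change e - 1 < e; omega)
      have h := not_not.1 (not_exists.1 this k)
      rwa [Nat.sub_add_cancel hpos] at h
  choose α hα using hdvd
  have hdec' : ∀ k, t ^ ((-k).toNat - e) ∣ α k := by
    intro k
    by_cases h : e ≤ (-k).toNat
    · obtain ⟨y, hy⟩ := hdec k
      refine ⟨y, mul_left_cancel₀ (pow_ne_zero e ht.ne_zero) ?_⟩
      rw [← hα, hy, ← mul_assoc, ← pow_add]
      congr 2
      omega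
    · rw [show (-k).toNat - e = 0 by omega, pow_zero]; exact one_dvd _
  have hunit : ∃ k, IsUnit (α k) := by
    obtain ⟨k, hk⟩ := Nat.find_spec hex
    refine ⟨k, ?_⟩
    by_contra hu
    obtain ⟨y, hy⟩ : t ∣ α k := by
      rw [← Ideal.mem_span_singleton, ← (IsDiscreteValuationRing.irreducible_iff_uniformizer t).1 ht]
      exact hu
    exact hk ⟨y, by rw [hα, hy, pow_succ]; ring⟩
  obtain ⟨n, hn, hmin⟩ := Int.exists_least_of_bdd (P := fun k => IsUnit (α k))
    ⟨-(e : ℤ), fun k hk => by
      by_contra h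
      exact ht.not_isUnit (isUnit_of_dvd_unit ((dvd_pow_self t (by omega)).trans (hdec' k)) hk)⟩ hunit
  exact ⟨e, n, α, hα, hn, fun k hk hu => absurd (hmin k hu) (not_le.2 hk), hdec'⟩

/-- the coefficient at the sum of the dominant indices of a product is a unit -/
theorem exists_isUnit_coeff_mul {O : Type v} [CommRing O] [IsDomain O] [IsDiscreteValuationRing O]
    {t : O} (ht : Irreducible t) (M : ℕ) (α β : ℤ → O) (n m : ℤ) (hαn : IsUnit (α n))
    (hβm : IsUnit (β m)) (hαmin : ∀ k < n, ¬ IsUnit (α k)) (hβmin : ∀ k < m, ¬ IsUnit (β k))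
    (α' β' : LaurentSeries (O ⧸ Ideal.span {t} ^ (M + 1)))
    (hα : ∀ k, α'.coeff k = Ideal.Quotient.mk _ (α k))
    (hβ : ∀ k, β'.coeff k = Ideal.Quotient.mk _ (β k)) :
    ∃ c : O, IsUnit c ∧ (α' * β').coeff (n + m) = Ideal.Quotient.mk _ c := by
  classical
  obtain ⟨c, hc⟩ := Ideal.Quotient.mk_surjective ((α' * β').coeff (n + m))
  refine ⟨c, ?_, hc.symm⟩
  by_contra hnot
  have hmax := (IsDiscreteValuationRing.irreducible_iff_uniformizer t).1 ht
  have hnu : ∀ {x : O}, ¬ IsUnit x → Ideal.Quotient.mk (Ideal.span {t}) x = 0 := fun {x} hx => by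
    rw [Ideal.Quotient.eq_zero_iff_mem, ← hmax]; exact hx
  let σ : O ⧸ Ideal.span {t} ^ (M + 1) →+* O ⧸ Ideal.span {t} :=
    Ideal.Quotient.factor (Ideal.pow_le_self (by omega))
  have hσ : ∀ x, σ (Ideal.Quotient.mk _ x) = Ideal.Quotient.mk _ x := fun x => rfl
  have h0 : σ ((α' * β').coeff (n + m)) = 0 := by
    rw [← hc, hσ]; exact hnu hnot
  rw [HahnSeries.coeff_mul, map_sum, Finset.sum_eq_single (n, m)] at h0
  · rw [map_mul, hα, hβ, hσ, hσ, ← map_mul, Ideal.Quotient.eq_zero_iff_mem,
      Ideal.mem_span_singleton] at h0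
    exact ht.not_isUnit (isUnit_of_dvd_unit h0 (hαn.mul hβm))
  · rintro ⟨p, q⟩ hpq hne'
    simp only [Finset.mem_antidiagonal] at hpq
    rw [map_mul, hα, hβ, hσ, hσ]
    rcases lt_trichotomy p n with h | h | h
    · rw [hnu (hαmin p h), zero_mul]
    · exact absurd (Prod.ext h (by omega)) hne'
    · rw [hnu (hβmin q (by omega)), mul_zero]
  · intro hnot'
    simp only [Finset.mem_antidiagonal, HahnSeries.mem_support] at hnot'
    by_cases h1 : α'.coeff n = 0
    · simp [h1]
    · by_cases h2 : β'.coeff m = 0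
      · simp [h2]
      · exact absurd ⟨h1, h2, trivial⟩ hnot'

/-- the coordinates are not all zero when a product with them is a non-zero constant -/
theorem exists_sc_ne_zero {O : Type v} [CommRing O] [IsDomain O] [IsDiscreteValuationRing O]
    (ρ : R →+* O) (i j : Fin 2) (hij : i ≠ j) (r s : R)
    (hρr : ρ r ∈ IsLocalRing.maximalIdeal O) (hρs : ρ s ≠ 0) (c : ℤ → R)
    (g : MvPowerSeries (Fin 2) R)
    (hcd : ser i j c * g - C s ∈ Ideal.span {(X i * X j - C r : MvPowerSeries (Fin 2) R)}) :
    ∃ k, ρ (c k * r ^ (-k).toNat) ≠ 0 := by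
  by_contra hall
  simp only [not_exists, not_not] at hall
  apply hρs
  refine IsHausdorff.haus' (I := IsLocalRing.maximalIdeal O) _ fun N => ?_
  rw [SModEq.zero, smul_eq_mul, Ideal.mul_top]
  let ψ := (Ideal.Quotient.mk (IsLocalRing.maximalIdeal O ^ (N + 1))).comp ρ
  have hq : ψ r ^ (N + 1) = 0 := by
    rw [RingHom.comp_apply, ← map_pow, Ideal.Quotient.eq_zero_iff_mem]
    exact Ideal.pow_mem_pow hρr _
  have h1 := toLaurent_mul_eq ψ N i j hij r s hq _ g hcd
  have h0 : toLaurent ψ N i j hij r hq (ser i j c) = 0 := by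
    ext k
    rw [coeff_toLaurent_ser, RingHom.comp_apply, hall k, map_zero, HahnSeries.coeff_zero]
  rw [h0, zero_mul] at h1
  have := (map_eq_zero_iff _ HahnSeries.C_injective).1 h1.symm
  rw [RingHom.comp_apply, Ideal.Quotient.eq_zero_iff_mem] at this
  exact Ideal.pow_le_pow_right (Nat.le_succ N) this

/-- Gauss lemma -/
theorem gauss {O : Type v} [CommRing O] [IsDomain O] [IsDiscreteValuationRing O] (ρ : R →+* O)
    (i j : Fin 2) (hij : i ≠ j) (r s : R) (hρr : ρ r ∈ IsLocalRing.maximalIdeal O) (hρs : ρ s ≠ 0)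
    (a b : ℤ → R) (hab : ser i j a * ser i j b - C s ∈
      Ideal.span {(X i * X j - C r : MvPowerSeries (Fin 2) R)}) :
    ∃ n : ℤ, (∀ k, ρ (a n * r ^ (-n).toNat) ∣ ρ (a k * r ^ (-k).toNat)) ∧
      (∀ k, ρ (b (-n) * r ^ (- -n).toNat) ∣ ρ (b k * r ^ (-k).toNat)) ∧
      Associated (ρ s) (ρ (a n * r ^ (-n).toNat) * ρ (b (-n) * r ^ (- -n).toNat)) := by
  obtain ⟨t, ht⟩ := IsDiscreteValuationRing.exists_irreducible O
  have hmax := (IsDiscreteValuationRing.irreducible_iff_uniformizer t).1 ht
  have hnu : ∀ {x : O}, ¬ IsUnit x → t ∣ x := fun {x} hx => by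
    rw [← Ideal.mem_span_singleton, ← hmax]; exact hx
  have htr : t ∣ ρ r := hnu hρr
  have hdec : ∀ (c : ℤ → R) k, t ^ (-k).toNat ∣ ρ (c k * r ^ (-k).toNat) := fun c k => by
    rw [map_mul, map_pow]; exact (pow_dvd_pow_of_dvd htr _).mul_left _
  obtain ⟨ea, n, α, hα, hαn, hαmin, hαdec⟩ := exists_content ht _
    (exists_sc_ne_zero ρ i j hij r s hρr hρs a _ hab) (hdec a)
  obtain ⟨eb, m, β, hβ, hβm, hβmin, hβdec⟩ := exists_content ht _
    (exists_sc_ne_zero ρ i j hij r s hρr hρs b (ser i j a) (by rwa [mul_comm (ser i j b)])) (hdec b)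
  generalize hMdef : ea + eb = M
  let π : O →+* O ⧸ Ideal.span {t} ^ (M + 1) := Ideal.Quotient.mk _
  have hπ : ∀ x, π x = 0 ↔ t ^ (M + 1) ∣ x := fun x => by
    simp only [π, Ideal.Quotient.eq_zero_iff_mem, Ideal.span_singleton_pow, Ideal.mem_span_singleton]
  have hq : (π.comp ρ) r ^ (M + 1) = 0 := by
    rw [RingHom.comp_apply, ← map_pow, hπ]; exact pow_dvd_pow_of_dvd htr _
  have hbdd : ∀ (γ : ℤ → O) (e : ℕ), (∀ k, t ^ ((-k).toNat - e) ∣ γ k) →
      BddBelow (Function.support fun k => π (γ k)) := by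
    intro γ e hγ
    refine ⟨-((M + 1 + e : ℕ) : ℤ), fun k hk => ?_⟩
    by_contra h
    exact hk ((hπ _).2 ((pow_dvd_pow t (by omega)).trans (hγ k)))
  let α' := HahnSeries.ofSuppBddBelow _ (hbdd α ea hαdec)
  let β' := HahnSeries.ofSuppBddBelow _ (hbdd β eb hβdec)
  have hA : toLaurent (π.comp ρ) M i j hij r hq (ser i j a) = HahnSeries.C (π (t ^ ea)) * α' := by
    ext k
    rw [coeff_toLaurent_ser, HahnSeries.C_apply, HahnSeries.coeff_single_zero_mul,
      RingHom.comp_apply, hα, map_mul]
    rfl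
  have hB : toLaurent (π.comp ρ) M i j hij r hq (ser i j b) = HahnSeries.C (π (t ^ eb)) * β' := by
    ext k
    rw [coeff_toLaurent_ser, HahnSeries.C_apply, HahnSeries.coeff_single_zero_mul,
      RingHom.comp_apply, hβ, map_mul]
    rfl
  have hM := toLaurent_mul_eq (π.comp ρ) M i j hij r s hq _ _ hab
  rw [hA, hB, mul_mul_mul_comm, ← map_mul HahnSeries.C, ← map_mul π] at hM
  have hM' := congrArg (fun z : LaurentSeries _ => z.coeff (n + m)) hM
  obtain ⟨c, hcu, hc⟩ := exists_isUnit_coeff_mul ht M α β n m hαn hβm hαmin hβmin α' β'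
    (fun _ => rfl) (fun _ => rfl)
  simp only [HahnSeries.C_apply, HahnSeries.coeff_single_zero_mul, HahnSeries.coeff_single, hc] at hM'
  change π (t ^ ea * t ^ eb) * π c = _ at hM'
  rw [← map_mul] at hM'
  have hnm : n + m = 0 := by
    by_contra h
    rw [if_neg h, hπ, ← pow_add, hMdef] at hM'
    obtain ⟨y, hy⟩ := hM'
    rw [pow_succ, mul_assoc] at hy
    exact ht.not_isUnit
      (isUnit_of_dvd_unit ⟨y, mul_left_cancel₀ (pow_ne_zero _ ht.ne_zero) hy⟩ hcu)
  rw [if_pos hnm] at hM'
  have hz : π (t ^ ea * t ^ eb * c - ρ s) = 0 := by rw [map_sub, hM']; exact sub_self _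
  obtain ⟨y, hy⟩ := (hπ _).1 hz
  have hs' : ρ s = t ^ ea * t ^ eb * (c - t * y) := by
    rw [pow_succ, ← hMdef, pow_add] at hy
    linear_combination -hy
  have hu2 : IsUnit (c - t * y) := by
    by_contra h
    have := dvd_add (hnu h) (dvd_mul_right t y)
    rw [sub_add_cancel] at this
    exact ht.not_isUnit (isUnit_of_dvd_unit this hcu)
  have hm : m = -n := by omega
  subst hm
  refine ⟨n, fun k => ?_, fun k => ?_, ?_⟩
  · rw [hα n, hα k]; exact mul_dvd_mul_left _ hαn.dvd
  · rw [hβ (-n), hβ k]; exact mul_dvd_mul_left _ hβm.dvd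
  · rw [hα n, hβ (-n), hs']
    obtain ⟨u, hu⟩ := hu2
    obtain ⟨v, hv⟩ := hαn
    obtain ⟨v', hv'⟩ := hβm
    refine ⟨u⁻¹ * v * v', ?_⟩
    simp only [Units.val_mul, ← hu, ← hv, ← hv']
    linear_combination (t ^ ea * t ^ eb * (v : O) * v') * u.mul_inv

end Groth.Agent.CAlg9.Node
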